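import Groth.Agent.H67.NormQuasiAffine
import Groth.Agent.H67.AmpleFinite
import Groth.Agent.H18.STL.PullCocycle

/-!
# Descent of ampleness along a finite morphism with a norm (helper18)

Let `π : X' ⟶ X` be a finite morphism carrying a norm of degree `d` (`Nrm.NormOfDegree π d`) and
`L` an invertible `O_X`-module.  If `π^* L` is ample, so is `L` (EGA II 6.6.1, Stacks 0BD2-type
argument): the norm of a section `σ` of `(π^* L)^{⊗ m}` is a section `τ` of `L^{⊗ md}` with
`X_τ = {y | π⁻¹(y) ⊆ X'_σ}`.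

* `exists_affine_cover_cocycle` : affine trivialising covers;
* `mem_basicOpen_norm_iff` : `y ∈ D(N b)` iff the fibre over `y` lies in `D(b)`;
* `exists_norm_section` : the norm of a section of a power of `π^* L`;
* `isAmple_of_isAmple_pullback` : the descent of ampleness.
-/

set_option autoImplicit false
universe u
open CategoryTheory CategoryTheory.Limits AlgebraicGeometry TopologicalSpace Opposite

namespace Groth.Agent.H18.NormAmple

open Groth.Agent.H18 Groth.Agent.H18.PUP Groth.Agent.H18.STL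

variable {X' X : Scheme.{u}}

/-- an affine cover with bases of an invertible module -/
theorem exists_affine_cover_cocycle {L : X.Modules} (hL : PicF.IsInvertible L) :
    ∃ (𝔘 : Cover X) (c : 𝔘.Cocycle) (e : ∀ i, Γ(L, 𝔘.W i)),
      HasCocycle 𝔘 c L e ∧ ∀ i, IsAffineOpen (𝔘.W i) := by
  have key : ∀ x : X, ∃ (W : X.Opens) (t : Γ(L, W)),
      x ∈ W ∧ IsAffineOpen W ∧ IsBasisOn L W t := by
    intro x
    obtain ⟨U, t, hxU, ht⟩ := exists_basis_of_isInvertible hL x
    obtain ⟨W, hWaff, hxW, hWU⟩ := Opens.isBasis_iff_nbhd.1 X.isBasis_affineOpens hxU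
    exact ⟨W, mres L hWU t, hxW, hWaff, ht.mono hWU⟩
  choose W t hxW hWaff ht using key
  let 𝔘 : Cover X := ⟨X, W, fun x => ⟨x, hxW x⟩⟩
  exact ⟨𝔘, cocycleOf 𝔘 ht, t, hasCocycle_cocycleOf 𝔘 ht, hWaff⟩

variable (π : X' ⟶ X) [IsFinite π] {d : ℕ} (N : Nrm.NormOfDegree π d)

/-- the non-vanishing locus of the norm of `b` consists of the points whose whole fibre lies in
the non-vanishing locus of `b` -/
theorem mem_basicOpen_norm_iff (W : X.Opens) (b : Γ(X', π ⁻¹ᵁ W)) (y : X) (hy : y ∈ W) :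
    y ∈ X.basicOpen (N.norm W b) ↔ ∀ x' : X', π.base x' = y → x' ∈ X'.basicOpen b := by
  constructor
  · rintro h x' rfl
    by_contra hx'
    have h1 : X'.presheaf.germ (π ⁻¹ᵁ W) x' hy b ∈
        IsLocalRing.maximalIdeal (X'.presheaf.stalk x') := by
      rw [IsLocalRing.mem_maximalIdeal, mem_nonunits_iff]
      intro hu
      exact hx' ((X'.mem_basicOpen b x' hy).2 hu)
    have h2 := N.norm_mem W b x' hy h1
    rw [IsLocalRing.mem_maximalIdeal, mem_nonunits_iff] at h2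
    exact h2 ((X.mem_basicOpen _ _ hy).1 h)
  · intro h
    let T : Set X' := (X'.basicOpen b : Set X')ᶜ
    have hT : IsClosed T := (X'.basicOpen b).2.isClosed_compl
    have hπT : IsClosed (π.base '' T) := π.isClosedMap _ hT
    let D : X.Opens := W ⊓ ⟨(π.base '' T)ᶜ, hπT.isOpen_compl⟩
    have hyD : y ∈ D := by
      refine ⟨hy, ?_⟩
      rintro ⟨x', hx'T, hx'⟩
      exact hx'T (h x' hx')
    have hDW : D ≤ W := inf_le_left
    have hpre : π ⁻¹ᵁ D ≤ X'.basicOpen b := by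
      intro x' hx'
      by_contra hn
      exact hx'.2 ⟨x', hn, rfl⟩
    have hpreW : π ⁻¹ᵁ D ≤ π ⁻¹ᵁ W := fun _ hx => hDW hx
    have hu : IsUnit (rres X' hpreW b) := (isUnit_res_iff_le_basicOpen hpreW b).2 hpre
    have h3 := N.norm_res (homOfLE hDW) b
    have hu' : IsUnit (N.norm D (X'.presheaf.map ((Opens.map π.base).map (homOfLE hDW)).op b)) :=
      hu.map (N.norm D)
    rw [← h3] at hu'
    exact (isUnit_res_iff_le_basicOpen hDW _).1 hu' hyD

variable {𝔘 : Cover X} {c : 𝔘.Cocycle} {L : X.Modules} {β : ∀ i, Γ(L, 𝔘.W i)}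

include N in
/-- the norm of a section of a tensor power of `π^* L` -/
theorem exists_norm_section (h : HasCocycle 𝔘 c L β) (m : ℕ)
    (σ : Coh.structureModule X' ⟶ CohB1.tensorPow ((Scheme.Modules.pullback π).obj L) m) :
    ∃ τ : Coh.structureModule X ⟶ CohB1.tensorPow L (m * d),
      ∀ y : X, y ∈ CohB1.genLocus _ τ ↔
        ∀ x' : X', π.base x' = y → x' ∈ CohB1.genLocus _ σ := by
  have h' := (h.pull π).lpow m
  have hd := h.lpow (m * d)
  let b : ∀ i, Γ(X', π ⁻¹ᵁ 𝔘.W i) := fun i => h'.coords σ i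
  let ν : ∀ i, Γ(X, 𝔘.W i) := fun i => N.norm (𝔘.W i) (b i)
  have hcompat : ∀ i j, rres X inf_le_left (ν i) =
      rres X inf_le_right (ν j) * (c ^ (m * d)) i j := by
    intro i j
    have h1 := h'.coords_trans σ i j
    have e1 := N.norm_res (homOfLE (inf_le_left : 𝔘.W i ⊓ 𝔘.W j ≤ 𝔘.W i)) (b i)
    have e2 := N.norm_res (homOfLE (inf_le_right : 𝔘.W i ⊓ 𝔘.W j ≤ 𝔘.W j)) (b j)
    have e3 := N.norm_app (𝔘.W i ⊓ 𝔘.W j) (c i j)
    have h1' : X'.presheaf.map ((Opens.map π.base).map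
          (homOfLE (inf_le_left : 𝔘.W i ⊓ 𝔘.W j ≤ 𝔘.W i))).op (b i) =
        X'.presheaf.map ((Opens.map π.base).map
          (homOfLE (inf_le_right : 𝔘.W i ⊓ 𝔘.W j ≤ 𝔘.W j))).op (b j) *
          (π.app (𝔘.W i ⊓ 𝔘.W j) (c i j)) ^ m := h1
    show X.presheaf.map (homOfLE _).op (N.norm (𝔘.W i) (b i)) =
      X.presheaf.map (homOfLE _).op (N.norm (𝔘.W j) (b j)) * (c i j) ^ (m * d)
    rw [e1, e2, h1', map_mul, map_pow, e3, ← pow_mul, mul_comm d m]
  obtain ⟨τ, hτ⟩ := hd.exists_of_coords ν hcompat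
  refine ⟨τ, fun y => ?_⟩
  obtain ⟨i, hi⟩ := 𝔘.cov y
  have e1 : CohB1.genLocus _ τ ⊓ 𝔘.W i = X.basicOpen (ν i) :=
    genLocus_inf_eq_basicOpen τ (hd.basis i) (ν i) (hτ i)
  have e2 : CohB1.genLocus _ σ ⊓ π ⁻¹ᵁ 𝔘.W i = X'.basicOpen (b i) := h'.genLocus_inf σ i
  have e3 := mem_basicOpen_norm_iff π N (𝔘.W i) (b i) y hi
  constructor
  · intro hy x' hx'
    have h4 : y ∈ X.basicOpen (ν i) := by
      rw [← e1]
      exact ⟨hy, hi⟩
    have h5 := e3.1 h4 x' hx'
    rw [← e2] at h5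
    exact h5.1
  · intro hy
    have h4 : y ∈ X.basicOpen (ν i) := by
      refine e3.2 (fun x' hx' => ?_)
      rw [← e2]
      refine ⟨hy x' hx', ?_⟩
      show π.base x' ∈ 𝔘.W i
      rw [hx']
      exact hi
    rw [← e1] at h4
    exact h4.1

include N in
/-- **Descent of ampleness along a finite morphism with a norm.** -/
theorem isAmple_of_isAmple_pullback {L : X.Modules} (hL : PicF.IsInvertible L)
    (hA : CohB1.IsAmple ((Scheme.Modules.pullback π).obj L)) : CohB1.IsAmple L := by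
  have hsurj := Groth.Agent.H67.NormQA.surjective_of_norm π N
  obtain ⟨𝔘, c, β, h, haff⟩ := exists_affine_cover_cocycle hL
  refine ⟨hL, ?_, fun x => ?_⟩
  · haveI : CompactSpace X' := hA.2.1
    refine ⟨?_⟩
    rw [← Set.range_eq_univ.2 hsurj]
    exact isCompact_range π.continuous
  · obtain ⟨i₀, hi₀⟩ := 𝔘.cov x
    have hfin : (π ⁻¹' {x}).Finite := π.finite_preimage_singleton x
    obtain ⟨n, σ, hZ, hσU, -⟩ := Groth.Agent.H67.AmpleFinite.exists_affine_genLocus_of_finite hA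
      (π ⁻¹' {x}) hfin (π ⁻¹ᵁ 𝔘.W i₀) (by
        intro z hz
        show π.base z ∈ 𝔘.W i₀
        have : π.base z = x := hz
        rw [this]
        exact hi₀)
    obtain ⟨τ, hτ⟩ := exists_norm_section π N h (n + 1) σ
    have hd1 := N.one_le
    obtain ⟨k, hk⟩ : ∃ k, (n + 1) * d = k + 1 := by
      refine ⟨(n + 1) * d - 1, ?_⟩
      have : 1 ≤ (n + 1) * d := Nat.one_le_iff_ne_zero.2 (Nat.mul_ne_zero (Nat.succ_ne_zero n)
        (by omega))
      omega
    have key : ∀ (M : ℕ) (τ : Coh.structureModule X ⟶ CohB1.tensorPow L M),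
        (∀ y : X, y ∈ CohB1.genLocus _ τ ↔
          ∀ x' : X', π.base x' = y → x' ∈ CohB1.genLocus _ σ) → M = k + 1 →
        ∃ (n : ℕ) (s : Coh.structureModule X ⟶ CohB1.tensorPow L (n + 1)),
          x ∈ CohB1.genLocus _ s ∧ IsAffineOpen (CohB1.genLocus _ s) := by
      intro M τ hτ hM
      subst hM
      refine ⟨k, τ, (hτ x).2 (fun x' hx' => hZ hx'), ?_⟩
      have hle : CohB1.genLocus _ τ ≤ 𝔘.W i₀ := by
        intro y hy
        obtain ⟨x', rfl⟩ := hsurj y
        exact hσU ((hτ _).1 hy x' rfl)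
      have e := (h.lpow (k + 1)).genLocus_inf τ i₀
      rw [inf_eq_left.2 hle] at e
      rw [e]
      exact (haff i₀).basicOpen _
    exact key _ τ hτ hk

end Groth.Agent.H18.NormAmple
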