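import Groth.Agent.H18.Norm.Ample
import Groth.Agent.H18.Cocycle.Inverse
import Groth.Agent.H67.InvertibleNearFibre

/-!
# The norm of an invertible module along a finite morphism with a norm (helper18)

Let `π : X' ⟶ X` be finite with a norm `N` of degree `d` and `L'` an invertible `O_{X'}`-module.
Then `L'` is trivial over the preimages of the members of an affine cover `𝔘` of `X`
(`exists_trivialising_cover`); the norms of its transition functions form a cocycle on `𝔘`
(`normCocycle`, `isCocycle_normCocycle`), which defines an invertible `O_X`-module (`ofCocycle`).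
Sections of powers of `L'` have norms (`exists_norm_section'`), and if `L'` is ample so is its norm:
`exists_isAmple_of_isAmple` (Stacks 0BD3-type statement: if `X'` has an ample invertible module,
so has `X`).
-/

set_option autoImplicit false
universe u
open CategoryTheory CategoryTheory.Limits AlgebraicGeometry TopologicalSpace Opposite

namespace Groth.Agent.H18.NormAmple

open Groth.Agent.H18 Groth.Agent.H18.PUP Groth.Agent.H18.STL

variable {X' X : Scheme.{u}} (π : X' ⟶ X)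

/-- an invertible module upstairs of a finite morphism is trivial over the preimages of the
members of an affine cover downstairs -/
theorem exists_trivialising_cover [IsFinite π] {L' : X'.Modules} (hL' : PicF.IsInvertible L') :
    ∃ (𝔘 : Cover X) (β' : ∀ i, Γ(L', π ⁻¹ᵁ 𝔘.W i)),
      (∀ i, IsAffineOpen (𝔘.W i)) ∧ ∀ i, IsBasisOn L' (π ⁻¹ᵁ 𝔘.W i) (β' i) := by
  have key : ∀ y : X, ∃ (W : X.Opens) (t : Γ(L', π ⁻¹ᵁ W)),
      y ∈ W ∧ IsAffineOpen W ∧ IsBasisOn L' (π ⁻¹ᵁ W) t := by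
    intro y
    obtain ⟨V, hyV, ⟨e⟩⟩ :=
      Groth.Agent.H67.InvertibleNearFibre.exists_trivial_preimage π L' hL' y
    obtain ⟨σ, hσ⟩ := Groth.Agent.H8.exists_isFreeGen_of_iso L' (π ⁻¹ᵁ V) e
    obtain ⟨W, hWaff, hyW, hWV⟩ := Opens.isBasis_iff_nbhd.1 X.isBasis_affineOpens hyV
    have hle : π ⁻¹ᵁ W ≤ π ⁻¹ᵁ V := fun _ hx => hWV hx
    have hσ' : IsBasisOn L' (π ⁻¹ᵁ V) σ := hσ
    exact ⟨W, mres L' hle σ, hyW, hWaff, hσ'.mono hle⟩
  choose W t hyW hWaff ht using key
  exact ⟨⟨X, W, fun y => ⟨y, hyW y⟩⟩, t, hWaff, ht⟩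

variable {d : ℕ} (N : Nrm.NormOfDegree π d)

/-- the norm of a cocycle on the pulled back cover -/
noncomputable def normCocycle (𝔘 : Cover X) (c' : (𝔘.pull π).Cocycle) : 𝔘.Cocycle :=
  fun i j => N.norm (𝔘.W i ⊓ 𝔘.W j) (c' i j)

theorem isCocycle_normCocycle {𝔘 : Cover X} {c' : (𝔘.pull π).Cocycle}
    (hc' : (𝔘.pull π).IsCocycle c') : 𝔘.IsCocycle (normCocycle π N 𝔘 c') where
  self i T hT := by
    have h1 := N.norm_res (homOfLE hT) (c' i i)
    have h2 : X'.presheaf.map ((Opens.map π.base).map (homOfLE hT)).op (c' i i) = 1 :=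
      hc'.self i (π ⁻¹ᵁ T) (fun _ hx => hT hx)
    rw [h2, map_one] at h1
    exact h1
  comp i j k T hik hij hjk := by
    have h1 := N.norm_res (homOfLE hik) (c' i k)
    have h2 := N.norm_res (homOfLE hij) (c' i j)
    have h3 := N.norm_res (homOfLE hjk) (c' j k)
    have h4 : X'.presheaf.map ((Opens.map π.base).map (homOfLE hik)).op (c' i k) =
        X'.presheaf.map ((Opens.map π.base).map (homOfLE hij)).op (c' i j) *
          X'.presheaf.map ((Opens.map π.base).map (homOfLE hjk)).op (c' j k) :=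
      hc'.comp i j k (π ⁻¹ᵁ T) (fun _ hx => hik hx) (fun _ hx => hij hx) (fun _ hx => hjk hx)
    show X.presheaf.map (homOfLE hik).op (N.norm _ (c' i k)) =
      X.presheaf.map (homOfLE hij).op (N.norm _ (c' i j)) *
        X.presheaf.map (homOfLE hjk).op (N.norm _ (c' j k))
    rw [h1, h2, h3, h4, map_mul]

variable [IsFinite π]

include N in
/-- the norm of a section of a tensor power of `L'` -/
theorem exists_norm_section' {𝔘 : Cover X} {c' : (𝔘.pull π).Cocycle} {L' : X'.Modules}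
    {β' : ∀ i, Γ(L', (𝔘.pull π).W i)} (h' : HasCocycle (𝔘.pull π) c' L' β')
    {M : X.Modules} {β : ∀ i, Γ(M, 𝔘.W i)} (h : HasCocycle 𝔘 (normCocycle π N 𝔘 c') M β) (m : ℕ)
    (σ : Coh.structureModule X' ⟶ CohB1.tensorPow L' m) :
    ∃ τ : Coh.structureModule X ⟶ CohB1.tensorPow M m,
      ∀ y : X, y ∈ CohB1.genLocus _ τ ↔
        ∀ x' : X', π.base x' = y → x' ∈ CohB1.genLocus _ σ := by
  have h'm := h'.lpow m
  have hm := h.lpow m
  let b : ∀ i, Γ(X', π ⁻¹ᵁ 𝔘.W i) := fun i => h'm.coords σ i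
  let ν : ∀ i, Γ(X, 𝔘.W i) := fun i => N.norm (𝔘.W i) (b i)
  have hcompat : ∀ i j, rres X inf_le_left (ν i) =
      rres X inf_le_right (ν j) * (normCocycle π N 𝔘 c' ^ m) i j := by
    intro i j
    have h1 := h'm.coords_trans σ i j
    have e1 := N.norm_res (homOfLE (inf_le_left : 𝔘.W i ⊓ 𝔘.W j ≤ 𝔘.W i)) (b i)
    have e2 := N.norm_res (homOfLE (inf_le_right : 𝔘.W i ⊓ 𝔘.W j ≤ 𝔘.W j)) (b j)
    have h1' : X'.presheaf.map ((Opens.map π.base).map
          (homOfLE (inf_le_left : 𝔘.W i ⊓ 𝔘.W j ≤ 𝔘.W i))).op (b i) =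
        X'.presheaf.map ((Opens.map π.base).map
          (homOfLE (inf_le_right : 𝔘.W i ⊓ 𝔘.W j ≤ 𝔘.W j))).op (b j) *
          (show Γ(X', π ⁻¹ᵁ (𝔘.W i ⊓ 𝔘.W j)) from c' i j) ^ m := h1
    show X.presheaf.map (homOfLE _).op (N.norm (𝔘.W i) (b i)) =
      X.presheaf.map (homOfLE _).op (N.norm (𝔘.W j) (b j)) *
        (N.norm (𝔘.W i ⊓ 𝔘.W j) (c' i j)) ^ m
    rw [e1, e2, h1', map_mul, map_pow]
  obtain ⟨τ, hτ⟩ := hm.exists_of_coords ν hcompat
  refine ⟨τ, fun y => ?_⟩
  obtain ⟨i, hi⟩ := 𝔘.cov y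
  have e1 : CohB1.genLocus _ τ ⊓ 𝔘.W i = X.basicOpen (ν i) :=
    genLocus_inf_eq_basicOpen τ (hm.basis i) (ν i) (hτ i)
  have e2 : CohB1.genLocus _ σ ⊓ π ⁻¹ᵁ 𝔘.W i = X'.basicOpen (b i) := h'm.genLocus_inf σ i
  have e3 := mem_basicOpen_norm_iff π N (𝔘.W i) (b i) y hi
  constructor
  · intro hy x' hx'
    have h4 : y ∈ X.basicOpen (ν i) := by
      rw [← e1]
      exact ⟨hy, hi⟩
    have h5 := e3.1 h4 x' hx'
    rw [← e2] at h5
    exact h5.1
  · intro hy
    have h4 : y ∈ X.basicOpen (ν i) := by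
      refine e3.2 (fun x' hx' => ?_)
      rw [← e2]
      refine ⟨hy x' hx', ?_⟩
      show π.base x' ∈ 𝔘.W i
      rw [hx']
      exact hi
    rw [← e1] at h4
    exact h4.1

include N in
/-- **If the source of a finite morphism with a norm has an ample invertible module, so has the
target** (the norm of the ample module is ample). -/
theorem exists_isAmple_of_isAmple {L' : X'.Modules} (hA : CohB1.IsAmple L') :
    ∃ M : X.Modules, CohB1.IsAmple M := by
  have hsurj := Groth.Agent.H67.NormQA.surjective_of_norm π N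
  obtain ⟨𝔘, β', haff, hβ'⟩ := exists_trivialising_cover π hA.1
  have h' : HasCocycle (𝔘.pull π) (cocycleOf (𝔘.pull π) hβ') L' β' :=
    hasCocycle_cocycleOf (𝔘.pull π) hβ'
  have hν := isCocycle_normCocycle π N h'.isCocycle
  have h := hasCocycle_ofCocycle hν
  refine ⟨ofCocycle 𝔘 (normCocycle π N 𝔘 (cocycleOf (𝔘.pull π) hβ')), h.isInvertible, ?_,
    fun x => ?_⟩
  · haveI : CompactSpace X' := hA.2.1
    refine ⟨?_⟩
    rw [← Set.range_eq_univ.2 hsurj]
    exact isCompact_range π.continuous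
  · obtain ⟨i₀, hi₀⟩ := 𝔘.cov x
    have hfin : (π ⁻¹' {x}).Finite := π.finite_preimage_singleton x
    obtain ⟨n, σ, hZ, hσU, -⟩ := Groth.Agent.H67.AmpleFinite.exists_affine_genLocus_of_finite hA
      (π ⁻¹' {x}) hfin (π ⁻¹ᵁ 𝔘.W i₀) (by
        intro z hz
        show π.base z ∈ 𝔘.W i₀
        have : π.base z = x := hz
        rw [this]
        exact hi₀)
    obtain ⟨τ, hτ⟩ := exists_norm_section' π N h' h (n + 1) σ
    refine ⟨n, τ, (hτ x).2 (fun x' hx' => hZ hx'), ?_⟩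
    have hle : CohB1.genLocus _ τ ≤ 𝔘.W i₀ := by
      intro y hy
      obtain ⟨x', rfl⟩ := hsurj y
      exact hσU ((hτ _).1 hy x' rfl)
    have e := (h.lpow (n + 1)).genLocus_inf τ i₀
    rw [inf_eq_left.2 hle] at e
    rw [e]
    exact (haff i₀).basicOpen _

end Groth.Agent.H18.NormAmple
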