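import Groth.Agent.H67.NormFinLocFree
import Groth.Agent.H44.AffineFree
import Groth.Prelude.Def_FlatMod2

/-!
# A norm for a finite surjective morphism with `g_* O` finite locally free (helper18)

Let `g : X' ⟶ X` be finite and surjective with `g_* O_{X'}` finite locally free (of possibly
varying rank) and `X` quasi-compact.  Then `g` carries a norm of some degree `R ≥ 1`
(`Nrm.NormOfDegree g R`): on an affine open `W` over which `g_* O_{X'}` is free of rank `r`
one takes `N_W = det(mult)^(R / r)`, where `R` is a common multiple of the finitely many ranks;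
these glue by `H67.NormGlue`.
-/

set_option autoImplicit false
set_option linter.style.haveILetI false
universe u
open CategoryTheory AlgebraicGeometry TopologicalSpace Opposite

namespace Groth.Agent.H18.NormVar

open Groth.Agent.H67.NormGlue Groth.Agent.H67.NormFreeAlg Groth.Agent.H67.NormFLF

attribute [local instance] Groth.Agent.H67.NormFLF.algApp

section Alg

variable {A B A' B' : Type*} [CommRing A] [CommRing B] [CommRing A'] [CommRing B']
  [Algebra A B] [Algebra A A'] [Algebra B B'] [Algebra A' B'] [Algebra A B']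
  [IsScalarTower A A' B'] [IsScalarTower A B B'] (f : A)
  [IsLocalization.Away f A'] [IsLocalization.Away (algebraMap A B f) B']

include f in
/-- the rank of a finite free algebra is unchanged by localization at an element -/
theorem finrank_away [Module.Free A B] [Module.Finite A B] [Nontrivial A'] :
    Module.finrank A' B' = Module.finrank A B := by
  haveI := isLocalization_algebraMapSubmonoid (A := A) (B := B) (B' := B') f
  haveI : Nontrivial A := (algebraMap A A').domain_nontrivial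
  let b := (Module.Free.chooseBasis A B).localizationLocalization A' (Submonoid.powers f) B'
  rw [Module.finrank_eq_card_basis b, ← Module.finrank_eq_card_chooseBasisIndex]

end Alg

variable {X' X : Scheme.{u}} {g : X' ⟶ X}

/-- the rank of `g_* O_{X'}` over `W` -/
noncomputable def rk (g : X' ⟶ X) (W : X.Opens) : ℕ :=
  Module.finrank Γ(X, W) Γ(X', g ⁻¹ᵁ W)

theorem rk_basicOpen [IsAffineHom g] {W W'' : X.Opens} (hW : Good g W) (f : Γ(X, W))
    (e : W'' = X.basicOpen f) (h : W'' ≤ W) [Nontrivial Γ(X, W'')] : rk g W'' = rk g W := by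
  obtain ⟨hWa, hfree, hfin⟩ := hW
  letI : Algebra Γ(X, W) Γ(X, W'') := (rY X h).toAlgebra
  letI : Algebra Γ(X', g ⁻¹ᵁ W) Γ(X', g ⁻¹ᵁ W'') := (rX g h).toAlgebra
  letI : Algebra Γ(X, W) Γ(X', g ⁻¹ᵁ W'') :=
    ((rX g h).comp (algebraMap Γ(X, W) Γ(X', g ⁻¹ᵁ W))).toAlgebra
  haveI : IsScalarTower Γ(X, W) Γ(X', g ⁻¹ᵁ W) Γ(X', g ⁻¹ᵁ W'') :=
    IsScalarTower.of_algebraMap_eq (fun x => rfl)
  haveI : IsScalarTower Γ(X, W) Γ(X, W'') Γ(X', g ⁻¹ᵁ W'') :=
    IsScalarTower.of_algebraMap_eq (fun x => (app_rY g h x).symm)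
  haveI : IsLocalization.Away f Γ(X, W'') := hWa.isLocalization_of_eq_basicOpen f (homOfLE h) e
  have e' : g ⁻¹ᵁ W'' = X'.basicOpen (g.app W f) := by rw [e, Scheme.preimage_basicOpen]
  haveI : IsLocalization.Away (algebraMap Γ(X, W) Γ(X', g ⁻¹ᵁ W) f) Γ(X', g ⁻¹ᵁ W'') :=
    (hWa.preimage g).isLocalization_of_eq_basicOpen (g.app W f)
      ((Opens.map g.base).map (homOfLE h)) e'
  exact finrank_away (A := Γ(X, W)) (B := Γ(X', g ⁻¹ᵁ W)) (A' := Γ(X, W''))
    (B' := Γ(X', g ⁻¹ᵁ W'')) f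

/-- the rank is locally constant -/
theorem rk_eq_of_mem [IsAffineHom g] {W W' : X.Opens} (hW : Good g W) (hW' : Good g W')
    (x : X) (hx : x ∈ W) (hx' : x ∈ W') : rk g W = rk g W' := by
  obtain ⟨f, f', hff', hxf⟩ := exists_basicOpen_le_affine_inter hW.1 hW'.1 x ⟨hx, hx'⟩
  haveI : Nontrivial Γ(X, X.basicOpen f) :=
    @Scheme.component_nontrivial X (X.basicOpen f) ⟨⟨x, hxf⟩⟩
  have h1 := rk_basicOpen hW f rfl (X.basicOpen_le f)
  have h2 := rk_basicOpen hW' f' hff' (hff' ▸ X.basicOpen_le f')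
  exact h1.symm.trans h2

theorem one_le_rk [Surjective g] {W : X.Opens} (hW : Good g W) (x : X) (hx : x ∈ W) :
    1 ≤ rk g W := by
  obtain ⟨x', rfl⟩ := g.surjective x
  haveI : Nontrivial Γ(X, W) := @Scheme.component_nontrivial X W ⟨⟨_, hx⟩⟩
  haveI : Nontrivial Γ(X', g ⁻¹ᵁ W) := @Scheme.component_nontrivial X' (g ⁻¹ᵁ W) ⟨⟨x', hx⟩⟩
  obtain ⟨-, hfree, hfin⟩ := hW
  exact Nat.one_le_iff_ne_zero.2 (Nat.pos_iff_ne_zero.1
    ((Module.finrank_pos_iff_of_free (R := Γ(X, W)) (M := Γ(X', g ⁻¹ᵁ W))).2 inferInstance))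

/-- the good opens form a basis when `g_* O_{X'}` is finite locally free -/
theorem isBasis_good [IsAffineHom g]
    (hfree : FlatMod.IsFinLocFree ((Coh.push g).obj (Coh.structureModule X'))) :
    Opens.IsBasis (Set.range (fun W : {W : X.Opens // Good g W} => W.1)) := by
  rw [Opens.isBasis_iff_nbhd]
  intro U y hy
  obtain ⟨V, n, hyV, ⟨e⟩⟩ := hfree y
  obtain ⟨W, hWaff, hyW, hWUV⟩ := Opens.isBasis_iff_nbhd.1 X.isBasis_affineOpens
    (show y ∈ U ⊓ V from ⟨hy, hyV⟩)
  obtain ⟨b⟩ := Groth.Agent.H44.nonempty_basis_of_iso_freeMod _ hWaff (hWUV.trans inf_le_right) e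
  have b' : Module.Basis (Fin n) Γ(X, W) Γ(X', g ⁻¹ᵁ W) := b
  exact ⟨W, ⟨⟨W, hWaff, Module.Free.of_basis b', Module.Finite.of_basis b'⟩, rfl⟩, hyW,
    hWUV.trans inf_le_left⟩

section LocalNorm

variable [IsFinite g] [Surjective g] (R : ℕ)
  (hR : ∀ (W : X.Opens), Good g W → ∀ x : X, x ∈ W → rk g W ∣ R)

/-- the local norms `det ^ (R / rank)` -/
noncomputable def localNorm (hR1 : 1 ≤ R)
    (hR : ∀ (W : X.Opens), Good g W → ∀ x : X, x ∈ W → rk g W ∣ R) :
    LocalNorm g R (fun W : {W : X.Opens // Good g W} => W.1) where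
  norm W := (powMonoidHom (R / rk g W.1)).comp (Algebra.norm Γ(X, W.1))
  norm_res {W W'} h s := by
    rcases subsingleton_or_nontrivial Γ(X, W'.1) with hsub | hnt
    · exact Subsingleton.elim _ _
    have hne : (W'.1 : Set X).Nonempty := by
      by_contra hemp
      have : W'.1 = ⊥ := by
        ext x
        simp only [Opens.coe_bot, Set.mem_empty_iff_false, iff_false]
        exact fun hx => hemp ⟨x, hx⟩
      have hs : Subsingleton Γ(X, W'.1) := by rw [this]; infer_instance
      exact not_subsingleton _ hs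
    obtain ⟨x, hx⟩ := hne
    have hrk : rk g W.1 = rk g W'.1 := rk_eq_of_mem W.2 W'.2 x (h hx) hx
    show rY X h ((Algebra.norm Γ(X, W.1) s) ^ (R / rk g W.1)) =
      (Algebra.norm Γ(X, W'.1) (rX g h s)) ^ (R / rk g W'.1)
    rw [map_pow, norm_res_good W.2 W'.2 h s, hrk]
  norm_app W a := by
    rcases subsingleton_or_nontrivial Γ(X, W.1) with hsub | hnt
    · exact Subsingleton.elim _ _
    have hne : (W.1 : Set X).Nonempty := by
      by_contra hemp
      have : W.1 = ⊥ := by
        ext x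
        simp only [Opens.coe_bot, Set.mem_empty_iff_false, iff_false]
        exact fun hx => hemp ⟨x, hx⟩
      have hs : Subsingleton Γ(X, W.1) := by rw [this]; infer_instance
      exact not_subsingleton _ hs
    obtain ⟨x, hx⟩ := hne
    have hdvd := hR W.1 W.2 x hx
    obtain ⟨-, hfree, hfin⟩ := W.2
    have h1 := Algebra.norm_algebraMap_of_basis
      (Module.Free.chooseBasis Γ(X, W.1) Γ(X', g ⁻¹ᵁ W.1)) a
    rw [← Module.finrank_eq_card_chooseBasisIndex] at h1
    show (Algebra.norm Γ(X, W.1) (g.app W.1 a)) ^ (R / rk g W.1) = a ^ R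
    have h2 : Algebra.norm Γ(X, W.1) (g.app W.1 a) = a ^ rk g W.1 := h1
    rw [h2, ← pow_mul, Nat.mul_div_cancel' hdvd]
  norm_mem W s x hx hs := by
    have h1 := norm_mem_good W.2 s x hx hs
    have hdvd := hR W.1 W.2 (g.base x) hx
    have hk : R / rk g W.1 ≠ 0 := by
      have hpos : 0 < rk g W.1 := one_le_rk W.2 (g.base x) hx
      have hle : rk g W.1 ≤ R := Nat.le_of_dvd hR1 hdvd
      exact Nat.ne_of_gt (Nat.div_pos hle hpos)
    show X.presheaf.germ W.1 (g.base x) hx ((Algebra.norm Γ(X, W.1) s) ^ (R / rk g W.1)) ∈ _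
    rw [map_pow]
    exact Ideal.pow_mem_of_mem _ h1 _ (Nat.pos_of_ne_zero hk)

end LocalNorm

/-- **A norm for a finite surjective morphism with finite locally free direct image of the
structure sheaf, over a quasi-compact base.** -/
theorem exists_hasNorm [IsFinite g] [Surjective g] [CompactSpace X]
    (hfree : FlatMod.IsFinLocFree ((Coh.push g).obj (Coh.structureModule X'))) :
    ∃ R : ℕ, Nrm.HasNorm g R := by
  classical
  have hB := isBasis_good (g := g) hfree
  -- a good neighbourhood of every point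
  have hpt : ∀ x : X, ∃ W : X.Opens, Good g W ∧ x ∈ W := by
    intro x
    obtain ⟨_, ⟨W, rfl⟩, hxW, -⟩ := Opens.isBasis_iff_nbhd.1 hB (show x ∈ (⊤ : X.Opens) from trivial)
    exact ⟨W.1, W.2, hxW⟩
  choose W hWgood hxW using hpt
  obtain ⟨t, ht⟩ := isCompact_univ.elim_finite_subcover (fun x : X => (W x : Set X))
    (fun x => (W x).2) (fun x _ => Set.mem_iUnion.2 ⟨x, hxW x⟩)
  let R : ℕ := ∏ x ∈ t, rk g (W x)
  have hR1 : 1 ≤ R := by
    refine Nat.one_le_iff_ne_zero.2 (Finset.prod_ne_zero_iff.2 (fun x _ => ?_))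
    exact Nat.one_le_iff_ne_zero.1 (one_le_rk (hWgood x) x (hxW x))
  have hR : ∀ (V : X.Opens), Good g V → ∀ y : X, y ∈ V → rk g V ∣ R := by
    intro V hV y hy
    have hy' := ht (Set.mem_univ y)
    simp only [Set.mem_iUnion] at hy'
    obtain ⟨x, hxt, hyx⟩ := hy'
    rw [rk_eq_of_mem hV (hWgood x) y hy hyx]
    exact Finset.dvd_prod_of_mem _ hxt
  exact ⟨R, ⟨normOfDegree hB (localNorm R hR1 hR) hR1⟩⟩

end Groth.Agent.H18.NormVar
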