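import Groth.Agent.H18.Norm.Ample
import Groth.Agent.H18.Norm.VarRank
import Groth.Agent.H18.STL.PullQuasiAffine2
import Groth.Agent.H33.SchemeDer.BaseChange
import Groth.Agent.H67.FreeLocus

/-!
# Descent of relative ampleness along a finite locally free surjective morphism (helper18)

EGA II 6.6.2-type statement: `g : X' ⟶ X` finite surjective with `g_* O_{X'}` finite locally free,
`f : X ⟶ Y` quasi-compact, `L` invertible on `X`; if `g^* L` is ample relative to `g ≫ f` then `L`
is ample relative to `f`.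
-/

set_option autoImplicit false
universe u
open CategoryTheory CategoryTheory.Limits AlgebraicGeometry TopologicalSpace Opposite

namespace Groth.Agent.H18.NormRel

open Groth.Agent.H18 Groth.Agent.H18.STL

variable {X' X Y : Scheme.{u}}

theorem isFinLocFree_of_iso {M M' : X.Modules} (e : M ≅ M') (h : FlatMod.IsFinLocFree M) :
    FlatMod.IsFinLocFree M' := by
  intro x
  obtain ⟨U, n, hx, ⟨a⟩⟩ := h x
  exact ⟨U, n, hx, ⟨(Scheme.Modules.restrictFunctor U.ι).mapIso e.symm ≪≫ a⟩⟩

/-- finite local freeness of `g_* O` restricts to opens of the base -/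
theorem isFinLocFree_push_morphismRestrict (g : X' ⟶ X) (U : X.Opens)
    (hfree : FlatMod.IsFinLocFree ((Coh.push g).obj (Coh.structureModule X'))) :
    FlatMod.IsFinLocFree ((Coh.push (g ∣_ U)).obj
      (Coh.structureModule ((g ⁻¹ᵁ U : X'.Opens) : Scheme.{u}))) := by
  have h1 : FlatMod.IsFinLocFree (((Coh.push g).obj (Coh.structureModule X')).restrict U.ι) :=
    Groth.Agent.H67.FreeLocus.isFinLocFree_restrict _ U (fun x _ => by
      obtain ⟨W, n, hx, e⟩ := hfree x
      exact ⟨W, n, hx, e⟩)
  have e1 := (Groth.Agent.H33.SchemeDer.baseChangeIso g U).app (Coh.structureModule X')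
  have e2 := (Scheme.Modules.pushforward (g ∣_ U)).mapIso
    (Scheme.Modules.restrictUnitIso (g ⁻¹ᵁ U).ι)
  exact isFinLocFree_of_iso (e1 ≪≫ e2) h1

/-- descent of relative ampleness -/
theorem isRelAmple_of_isRelAmple_pullback (f : X ⟶ Y) [QuasiCompact f]
    (g : X' ⟶ X) [IsFinite g] [Surjective g]
    (hfree : FlatMod.IsFinLocFree ((Coh.push g).obj (Coh.structureModule X')))
    {L : X.Modules} (hL : PicF.IsInvertible L)
    (h : RelAmple.IsRelAmple (g ≫ f) ((Scheme.Modules.pullback g).obj L)) :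
    RelAmple.IsRelAmple f L := by
  refine ⟨inferInstance, fun V => ?_⟩
  let U : X.Opens := f ⁻¹ᵁ V.1
  have hA : CohB1.IsAmple (((Scheme.Modules.pullback g).obj L).restrict (g ⁻¹ᵁ U).ι) := h.2 V
  have hA' := isAmple_of_iso (Groth.Agent.H67.PullBasis.pbRestrictIso g U L) hA
  haveI : IsFinite (g ∣_ U) := IsZariskiLocalAtTarget.restrict ‹IsFinite g› U
  haveI : Surjective (g ∣_ U) := IsZariskiLocalAtTarget.restrict ‹Surjective g› U
  haveI : CompactSpace ((U : X.Opens) : Scheme.{u}) :=
    isCompact_iff_compactSpace.1 (QuasiCompact.isCompact_preimage (f := f) _ V.1.2 V.2.isCompact)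
  obtain ⟨R, ⟨N⟩⟩ := NormVar.exists_hasNorm (g := g ∣_ U)
    (isFinLocFree_push_morphismRestrict g U hfree)
  have hL' : PicF.IsInvertible (L.restrict U.ι) :=
    Groth.Agent.H67.ParaMono.isInvertible_restrict U.ι L hL
  exact NormAmple.isAmple_of_isAmple_pullback (g ∣_ U) N hL' hA'

end Groth.Agent.H18.NormRel
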