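import Groth.Agent.H18.Norm.Ample
import Groth.Agent.H67.NormFinLocFree

/-!
# Triviality of `L^{⊗ d}` when `g^* L` is trivial, `g` finite with a norm of degree `d` (helper18)

* `isIso_of_locally_bijective`, `isIso_of_genLocus_eq_top` : a section generating everywhere is an
  isomorphism;
* `nonempty_tensorPow_iso_of_pullback_iso` : if `π` is finite with a norm of degree `d` and
  `π^* L ≅ O`, then `L^{⊗ d} ≅ O`.
-/

set_option autoImplicit false
universe u
open CategoryTheory CategoryTheory.Limits AlgebraicGeometry TopologicalSpace Opposite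

namespace Groth.Agent.H18.NormAmple

open Groth.Agent.H18 Groth.Agent.H18.PUP Groth.Agent.H18.STL

variable {X' X : Scheme.{u}}

/-- a morphism of modules which is locally bijective on sections is an isomorphism -/
theorem isIso_of_locally_bijective {M N : X.Modules} (a : M ⟶ N)
    (h : ∀ x : X, ∃ U : X.Opens, x ∈ U ∧ ∀ W : X.Opens, W ≤ U → Function.Bijective (a.app W)) :
    IsIso a := by
  choose U hxU hU using h
  rw [Scheme.Modules.Hom.isIso_iff_isIso_app]
  intro W
  rw [ConcreteCategory.isIso_iff_bijective]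
  have hinj : ∀ W : X.Opens, Function.Injective (a.app W) := by
    intro W s s' hss'
    refine modules_eq_of_locally_eq M s s' (fun x hx => ?_)
    refine ⟨W ⊓ U x, inf_le_left, ⟨hx, hxU x⟩, ?_⟩
    apply (hU x (W ⊓ U x) inf_le_right).1
    rw [← hom_app_mres, ← hom_app_mres]
    exact congrArg _ hss'
  refine ⟨hinj W, fun t => ?_⟩
  -- local preimages
  have hloc : ∀ x : X, ∃ s : Γ(M, W ⊓ U x), a.app (W ⊓ U x) s = mres N inf_le_left t :=
    fun x => (hU x (W ⊓ U x) inf_le_right).2 _
  choose σ hσ using hloc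
  obtain ⟨s, hs⟩ := exists_glue M (fun x : X => W ⊓ U x) W (fun _ => inf_le_left)
    (fun x hx => ⟨x, hx, hxU x⟩) σ (by
      intro x y
      apply hinj
      rw [← hom_app_mres, ← hom_app_mres, hσ, hσ, mres_mres, mres_mres])
  refine ⟨s, ?_⟩
  refine modules_eq_of_locally_eq N _ _ (fun x hx => ?_)
  refine ⟨W ⊓ U x, inf_le_left, ⟨hx, hxU x⟩, ?_⟩
  rw [hom_app_mres, hs x, hσ x]

/-- a section which generates everywhere is an isomorphism -/
theorem isIso_of_genLocus_eq_top {L : X.Modules} (s : Coh.structureModule X ⟶ L)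
    (h : CohB1.genLocus L s = ⊤) : IsIso s := by
  refine isIso_of_locally_bijective s (fun x => ?_)
  have hx : x ∈ CohB1.genLocus L s := h ▸ trivial
  have hx' : x ∈ sSup {W : X.Opens | IsIso ((Scheme.Modules.restrictFunctor W.ι).map s)} := hx
  rw [Opens.mem_sSup] at hx'
  obtain ⟨U, hU, hxU⟩ := hx'
  exact ⟨U, hxU, (Groth.Agent.H67.GenLocusAffine.isIso_restrict_iff s U).1 hU⟩

theorem genLocus_eq_top_of_isIso {L : X.Modules} (s : Coh.structureModule X ⟶ L) [IsIso s] :
    CohB1.genLocus L s = ⊤ := by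
  apply top_le_iff.1
  apply le_sSup
  show IsIso ((Scheme.Modules.restrictFunctor (⊤ : X.Opens).ι).map s)
  infer_instance

/-- if `π` is finite with a norm of degree `d` and `π^* L` is trivial, then `L^{⊗ d}` is
trivial -/
theorem nonempty_tensorPow_iso_of_pullback_iso (π : X' ⟶ X) [IsFinite π] {d : ℕ}
    (N : Nrm.NormOfDegree π d) {L : X.Modules} (hL : PicF.IsInvertible L)
    (e : (Scheme.Modules.pullback π).obj L ≅ Coh.structureModule X') :
    Nonempty (CohB1.tensorPow L d ≅ Coh.structureModule X) := by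
  obtain ⟨𝔘, c, β, h, -⟩ := exists_affine_cover_cocycle hL
  have hL' : PicF.IsInvertible ((Scheme.Modules.pullback π).obj L) :=
    (h.pull π).isInvertible
  haveI : IsIso e.inv := inferInstance
  have h0 : CohB1.genLocus _ e.inv = ⊤ := genLocus_eq_top_of_isIso e.inv
  have h1 : CohB1.genLocus _ (SecTwist.powHom e.inv (0 + 1)) = ⊤ :=
    (Groth.Agent.H67.SepCover.genLocus_powHom hL' e.inv 0).trans h0
  obtain ⟨τ, hτ⟩ := exists_norm_section π N h (0 + 1) (SecTwist.powHom e.inv (0 + 1))
  have h2 : CohB1.genLocus _ τ = ⊤ := by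
    apply top_le_iff.1
    intro y _
    refine (hτ y).2 (fun x' _ => ?_)
    rw [h1]
    trivial
  haveI := isIso_of_genLocus_eq_top τ h2
  have hd : (0 + 1) * d = d := by omega
  have key : Nonempty (CohB1.tensorPow L ((0 + 1) * d) ≅ Coh.structureModule X) :=
    ⟨(asIso τ).symm⟩
  rw [hd] at key
  exact key

end Groth.Agent.H18.NormAmple
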